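import Mathlib.RingTheory.Kaehler.Basic
import Mathlib.RingTheory.AdicCompletion.Basic
import Mathlib.RingTheory.Filtration
import Mathlib.RingTheory.Localization.Submodule
import Mathlib.RingTheory.EssentialFiniteness
import Mathlib.FieldTheory.IntermediateField.Adjoin.Algebra
import Mathlib.FieldTheory.SeparableClosure
import Mathlib.FieldTheory.RatFunc.Basic
import Mathlib.RingTheory.AdjoinRoot
import Mathlib.RingTheory.Localization.AtPrime.Basic
import Mathlib.Algebra.Polynomial.Identities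

/-! The diagonal of a field extension and separability. -/

set_option autoImplicit false

universe u

open scoped TensorProduct
open Polynomial Algebra.TensorProduct

namespace Groth.Agent.Sep31

variable (K L : Type u) [Field K] [Field L] [Algebra K L]

/-- Annihilators of `x ⊗ 1 - 1 ⊗ x` lie in the diagonal ideal, given a test ring. -/
theorem mem_ker_of_mul_eq_zero (F : Type u) [Field F] [Algebra K F] [Algebra F L] [IsScalarTower K F L]
    (ξ : F) (R : Type u) [CommRing R] [Algebra L R] [Algebra K R] [IsScalarTower K L R] (ε : R →ₐ[L] L)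
    (j : F →ₐ[K] R) (hεj : ∀ c, ε (j c) = algebraMap F L c)
    (hR : ∀ r : R, r * (algebraMap L R (algebraMap F L ξ) - j ξ) = 0 → ε r = 0)
    (s : L ⊗[K] L) (hs : s * (algebraMap F L ξ ⊗ₜ 1 - 1 ⊗ₜ algebraMap F L ξ) = 0) :
    s ∈ KaehlerDifferential.ideal K L := by
  classical
  let b := Module.Basis.ofVectorSpace F L
  let Φ : L ⊗[K] F →ₐ[L] R := Algebra.TensorProduct.lift (Algebra.ofId L R) j fun _ _ => Commute.all _ _
  let ι : L ⊗[K] F →ₐ[L] L ⊗[K] L :=
    Algebra.TensorProduct.map (AlgHom.id L L) (IsScalarTower.toAlgHom K F L)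
  let Ψ : ∀ _ : Module.Basis.ofVectorSpaceIndex F L, L ⊗[K] L →ₗ[K] L ⊗[K] F := fun i =>
    LinearMap.lTensor L ((b.coord i).restrictScalars K)
  have hΨ : ∀ i t w, Ψ i (w * ι t) = Ψ i w * t := by
    intro i t w
    induction t using TensorProduct.induction_on with
    | zero => simp
    | add t₁ t₂ h₁ h₂ => simp [mul_add, h₁, h₂]
    | tmul a c =>
      induction w using TensorProduct.induction_on with
      | zero => simp
      | add w₁ w₂ h₁ h₂ => simp [add_mul, h₁, h₂]
      | tmul a' y =>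
        show LinearMap.lTensor L _ ((a' ⊗ₜ[K] y) * (a ⊗ₜ[K] algebraMap F L c)) = _
        rw [tmul_mul_tmul, mul_comm y, ← Algebra.smul_def]
        simp [Ψ, mul_comm c]
  let θ := ι (algebraMap F L ξ ⊗ₜ 1 - 1 ⊗ₜ ξ)
  have hθ : θ = algebraMap F L ξ ⊗ₜ 1 - 1 ⊗ₜ algebraMap F L ξ := by simp [θ, ι]
  have h0 : ∀ i, ε (Φ (Ψ i s)) = 0 := fun i => by
    refine hR _ ?_
    have h := hΨ i (algebraMap F L ξ ⊗ₜ 1 - 1 ⊗ₜ ξ) s
    rw [show ι (algebraMap F L ξ ⊗ₜ 1 - 1 ⊗ₜ ξ) = θ from rfl, hθ, hs, map_zero] at h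
    have h2 := congrArg Φ h.symm
    rw [map_zero, map_mul] at h2
    simpa [Φ, Algebra.ofId_apply] using h2
  let G : L ⊗[K] L →ₗ[K] (Module.Basis.ofVectorSpaceIndex F L →₀ L) := TensorProduct.lift
    (LinearMap.mk₂ K (fun a y => a • (b.repr y).mapRange (algebraMap F L) (map_zero _))
      (fun a a' y => add_smul a a' _) (fun r a y => smul_assoc r a _)
      (fun a y y' => by rw [map_add, Finsupp.mapRange_add (map_add _), smul_add])
      (fun r a y => by
        ext i
        rw [← algebraMap_smul F r y, map_smul]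
        simp [Algebra.smul_def, ← IsScalarTower.algebraMap_apply, mul_left_comm]))
  have hG : ∀ t i, G t i = ε (Φ (Ψ i t)) := by
    intro t i
    induction t using TensorProduct.induction_on with
    | zero => simp
    | add t₁ t₂ h₁ h₂ => simp [h₁, h₂]
    | tmul a y => simp [G, Ψ, Φ, Algebra.ofId_apply, hεj]
  have hμ : ∀ t, Finsupp.linearCombination L b (G t) = Algebra.TensorProduct.lmul' (S := L) K t := by
    intro t
    induction t using TensorProduct.induction_on with
    | zero => simp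
    | add t₁ t₂ h₁ h₂ => simp [h₁, h₂]
    | tmul a y =>
      simp only [G, TensorProduct.lift.tmul, LinearMap.mk₂_apply, map_smul, lmul'_apply_tmul, smul_eq_mul]
      congr 1
      conv_rhs => rw [← b.linearCombination_repr y]
      rw [Finsupp.linearCombination_apply, Finsupp.linearCombination_apply,
        Finsupp.sum_mapRange_index (fun i => zero_smul L (b i))]
      exact Finsupp.sum_congr fun i _ => algebraMap_smul L _ _
  have hG0 : G s = 0 := Finsupp.ext fun i => (hG s i).trans (h0 i)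
  show Algebra.TensorProduct.lmul' (S := L) K s = 0
  rw [← hμ, hG0, map_zero]

theorem mem_ker_of_transcendental {x : L} (hx : Transcendental K x)
    (s : L ⊗[K] L) (hs : s * (x ⊗ₜ 1 - 1 ⊗ₜ x) = 0) : s ∈ KaehlerDifferential.ideal K L := by
  have hinj : Function.Injective (aeval x : K[X] →ₐ[K] L) := transcendental_iff_injective.1 hx
  have hle : ∀ p : nonZeroDivisors K[X], IsUnit ((aeval x : K[X] →ₐ[K] L) p.1) := fun p =>
    isUnit_iff_ne_zero.2 fun h => nonZeroDivisors.ne_zero p.2 (hinj (h.trans (map_zero _).symm))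
  let f : RatFunc K →ₐ[K] L := IsLocalization.liftAlgHom hle
  have hf' : ∀ p : K[X], f (algebraMap K[X] (RatFunc K) p) = aeval x p := fun p => IsLocalization.lift_eq hle p
  let _ : Algebra (RatFunc K) L := f.toRingHom.toAlgebra
  have : IsScalarTower K (RatFunc K) L := IsScalarTower.of_algebraMap_eq fun r => (f.commutes r).symm
  let P : Ideal L[X] := Ideal.span {X - C x}
  have : P.IsPrime := (Ideal.span_singleton_prime (X_sub_C_ne_zero x)).2 (prime_X_sub_C x)
  let R := Localization.AtPrime P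
  have hev : ∀ p : P.primeCompl, IsUnit ((aeval x : L[X] →ₐ[L] L) p.1) := fun p => by
    refine isUnit_iff_ne_zero.2 fun h => p.2 (Ideal.mem_span_singleton.2 (dvd_iff_isRoot.2 ?_))
    simpa [IsRoot, coe_aeval_eq_eval] using h
  let ε : R →ₐ[L] L := IsLocalization.liftAlgHom hev
  let g : K[X] →ₐ[K] R := ((IsScalarTower.toAlgHom L L[X] R).restrictScalars K).comp
    (Polynomial.mapAlgHom (Algebra.ofId K L))
  have hg : ∀ p : nonZeroDivisors K[X], IsUnit (g p.1) := fun p => by
    refine IsLocalization.map_units R (⟨mapAlgHom (Algebra.ofId K L) p.1, fun hp => ?_⟩ : P.primeCompl)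
    refine nonZeroDivisors.ne_zero p.2 (hinj ?_)
    rw [map_zero, ← aeval_map_algebraMap L x]
    have := dvd_iff_isRoot.1 (Ideal.mem_span_singleton.1 hp)
    simpa [IsRoot, coe_aeval_eq_eval, Algebra.ofId_apply] using this
  let j : RatFunc K →ₐ[K] R := IsLocalization.liftAlgHom hg
  have hj : ∀ p : K[X], j (algebraMap K[X] (RatFunc K) p) = g p := fun p =>
    IsLocalization.lift_eq hg p
  have hεj : ∀ c, ε (j c) = algebraMap (RatFunc K) L c := by
    refine AlgHom.congr_fun (φ₁ := (ε.restrictScalars K).comp j) (φ₂ := f) ?_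
    refine IsLocalization.algHom_ext (nonZeroDivisors K[X]) ?_
    refine Polynomial.algHom_ext ?_
    show ε (j (algebraMap K[X] (RatFunc K) X)) = f (algebraMap K[X] (RatFunc K) X)
    rw [hj, hf', aeval_X]
    show ε (algebraMap L[X] R (mapAlgHom (Algebra.ofId K L) X)) = x
    rw [IsLocalization.liftAlgHom_apply, IsLocalization.lift_eq]
    simp
  have hξ : algebraMap (RatFunc K) L (algebraMap K[X] (RatFunc K) X) = x :=
    (hf' X).trans (aeval_X x)
  refine mem_ker_of_mul_eq_zero K L (RatFunc K) (algebraMap K[X] (RatFunc K) X) R ε j hεj (fun r hr => ?_) s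
    (by rw [hξ]; exact hs)
  rw [hξ, hj] at hr
  have hne : algebraMap L R x - g X ≠ 0 := by
    show algebraMap L R x - algebraMap L[X] R (mapAlgHom (Algebra.ofId K L) X) ≠ 0
    rw [IsScalarTower.algebraMap_apply L L[X] R, ← map_sub]
    intro h
    have h' := IsLocalization.injective R P.primeCompl_le_nonZeroDivisors (h.trans (map_zero _).symm)
    refine X_sub_C_ne_zero x ?_
    rw [← neg_eq_zero]
    simpa using h'
  rcases mul_eq_zero.1 hr with h | h
  · rw [h, map_zero]
  · exact absurd h hne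

theorem mem_ker_of_not_separable {x : L} (hx : ¬ IsSeparable K x)
    (s : L ⊗[K] L) (hs : s * (x ⊗ₜ 1 - 1 ⊗ₜ x) = 0) : s ∈ KaehlerDifferential.ideal K L := by
  by_cases hi : IsIntegral K x
  swap
  · exact mem_ker_of_transcendental K L (fun h => hi h.isIntegral) s hs
  set f := minpoly K x with hf
  have hirr : Fact (Irreducible f) := ⟨minpoly.irreducible hi⟩
  let jL : AdjoinRoot f →ₐ[K] L := AdjoinRoot.liftAlgHom f (Algebra.ofId K L) x (minpoly.aeval K x)
  let _ : Algebra (AdjoinRoot f) L := jL.toRingHom.toAlgebra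
  have : IsScalarTower K (AdjoinRoot f) L := IsScalarTower.of_algebraMap_eq fun r => (jL.commutes r).symm
  let fL := f.map (algebraMap K L)
  have hfx : aeval x fL = 0 := by rw [aeval_map_algebraMap, minpoly.aeval]
  let ε : AdjoinRoot fL →ₐ[L] L := AdjoinRoot.liftAlgHom fL (Algebra.ofId L L) x hfx
  let j : AdjoinRoot f →ₐ[K] AdjoinRoot fL := AdjoinRoot.liftAlgHom f (Algebra.ofId K (AdjoinRoot fL))
    (AdjoinRoot.root fL) (by
      have h := AdjoinRoot.eval₂_root fL
      rw [eval₂_map] at h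
      exact h)
  have hεj : ∀ c, ε (j c) = algebraMap (AdjoinRoot f) L c := by
    refine AlgHom.congr_fun (φ₁ := (ε.restrictScalars K).comp j) (φ₂ := jL) (AdjoinRoot.algHom_ext ?_)
    show ε (j (AdjoinRoot.root f)) = jL (AdjoinRoot.root f)
    rw [show j (AdjoinRoot.root f) = AdjoinRoot.root fL from AdjoinRoot.liftAlgHom_root f _ _ _,
      show jL (AdjoinRoot.root f) = x from AdjoinRoot.liftAlgHom_root f _ _ _]
    exact AdjoinRoot.liftAlgHom_root fL _ _ _
  have hξ : algebraMap (AdjoinRoot f) L (AdjoinRoot.root f) = x :=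
    AdjoinRoot.liftAlgHom_root f _ _ _
  refine mem_ker_of_mul_eq_zero K L (AdjoinRoot f) (AdjoinRoot.root f) (AdjoinRoot fL) ε j hεj (fun r hr => ?_) s
    (by rw [hξ]; exact hs)
  rw [hξ] at hr
  obtain ⟨p, rfl⟩ := AdjoinRoot.mk_surjective r
  have hjroot : j (AdjoinRoot.root f) = AdjoinRoot.mk fL X :=
    (AdjoinRoot.liftAlgHom_root f _ _ _).trans AdjoinRoot.mk_X.symm
  rw [hjroot, AdjoinRoot.algebraMap_eq, ← AdjoinRoot.mk_C, ← map_sub, ← map_mul, AdjoinRoot.mk_eq_zero] at hr
  obtain ⟨f₁, hf₁⟩ : X - C x ∣ fL := dvd_iff_isRoot.2 (by simpa [IsRoot, coe_aeval_eq_eval] using hfx)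
  have hd : f.derivative = 0 := by
    by_contra h
    exact hx ((separable_iff_derivative_ne_zero hirr.out).2 h)
  have h1 : f₁.eval x = 0 := by
    have := congrArg (fun q => (derivative q).eval x) hf₁
    simpa [fL, derivative_map, hd, derivative_mul] using this.symm
  obtain ⟨h, hh⟩ := hr
  have hp : p = -(f₁ * h) := by
    refine mul_right_cancel₀ (X_sub_C_ne_zero x) ?_
    rw [neg_mul, mul_assoc, mul_comm h, ← mul_assoc, mul_comm f₁, ← hf₁, ← hh]
    ring
  have : ε (AdjoinRoot.mk fL p) = p.eval x := by simp [ε]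
  rw [this, hp, eval_neg, eval_mul, h1, zero_mul, neg_zero]

theorem of_tmul_eq_iff (hfg : (⊤ : IntermediateField K L).FG) (x : L) :
    AdicCompletion.of (KaehlerDifferential.ideal K L) (L ⊗[K] L) (x ⊗ₜ[K] (1 : L)) =
        AdicCompletion.of (KaehlerDifferential.ideal K L) (L ⊗[K] L) ((1 : L) ⊗ₜ[K] x) ↔
      x ∈ separableClosure K L := by
  have : Algebra.EssFiniteType K L := IntermediateField.fg_top_iff.1 hfg
  have : IsNoetherianRing (L ⊗[K] L) := Algebra.EssFiniteType.isNoetherianRing L (L ⊗[K] L)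
  let I := KaehlerDifferential.ideal K L
  have key : AdicCompletion.of I (L ⊗[K] L) (x ⊗ₜ[K] (1 : L)) = AdicCompletion.of I (L ⊗[K] L) ((1 : L) ⊗ₜ[K] x) ↔
      ∃ r : I, (r : L ⊗[K] L) • (x ⊗ₜ[K] (1 : L) - 1 ⊗ₜ x) = x ⊗ₜ[K] (1 : L) - 1 ⊗ₜ x := by
    rw [← Ideal.mem_iInf_smul_pow_eq_bot_iff, Submodule.mem_iInf]
    constructor
    · intro h n
      exact (Submodule.Quotient.eq _).1 (congrArg (fun z : AdicCompletion I (L ⊗[K] L) => z.1 n) h)
    · intro h
      exact Subtype.ext (funext fun n => (Submodule.Quotient.eq _).2 (h n))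
  rw [key, mem_separableClosure_iff]
  constructor
  · rintro ⟨⟨r, hr⟩, he⟩
    by_contra hx
    have h := mem_ker_of_not_separable K L hx (1 - r) (by
      rw [sub_mul, one_mul, ← smul_eq_mul r, he, sub_self])
    have : (1 : L ⊗[K] L) ∈ I := by simpa using add_mem h hr
    have h1 : Algebra.TensorProduct.lmul' (S := L) K 1 = 0 := this
    simp at h1
  · intro hx
    set δ := x ⊗ₜ[K] (1 : L) - 1 ⊗ₜ x
    let a : L ⊗[K] L := (1 : L) ⊗ₜ[K] x
    obtain ⟨k, hk⟩ := binomExpansion ((minpoly K x).map (algebraMap K (L ⊗[K] L))) a δ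
    have h1 : ((minpoly K x).map (algebraMap K (L ⊗[K] L))).eval a = 0 := by
      rw [eval_map, ← aeval_def, show a = (includeRight : L →ₐ[K] L ⊗[K] L) x from rfl, aeval_algHom_apply,
        minpoly.aeval, map_zero]
    have h2 : ((minpoly K x).map (algebraMap K (L ⊗[K] L))).eval (a + δ) = 0 := by
      rw [show a + δ = (Algebra.TensorProduct.includeLeft : L →ₐ[K] L ⊗[K] L) x from add_sub_cancel _ _, eval_map,
        ← aeval_def, aeval_algHom_apply, minpoly.aeval, map_zero]
    have h3 : IsUnit (((minpoly K x).map (algebraMap K (L ⊗[K] L))).derivative.eval a) := by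
      rw [derivative_map, eval_map, ← aeval_def, show a = (includeRight : L →ₐ[K] L ⊗[K] L) x from rfl,
        aeval_algHom_apply]
      exact (isUnit_iff_ne_zero.2 (hx.aeval_derivative_ne_zero (minpoly.aeval K x))).map _
    rw [h1, h2, zero_add] at hk
    obtain ⟨v, hv⟩ := h3.exists_left_inv
    refine ⟨⟨-(v * k * δ), I.neg_mem (I.mul_mem_left _ ?_)⟩, ?_⟩
    · show Algebra.TensorProduct.lmul' (S := L) K δ = 0
      simp [δ]
    · show -(v * k * δ) * δ = δ
      linear_combination v * hk + δ * hv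

end Groth.Agent.Sep31
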